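import Cfsg.Agent.H588.RIM.Odd
import Cfsg.Agent.H242.RIM.SThree
import Cfsg.Agent.H88.RIM.O8Five
import Cfsg.Agent.H88.RIM.O8Seven
import Cfsg.Agent.H63.EightTwo
import Cfsg.Agent.S3669

/-!
# S4816, the rows `(Ω₈⁺(2), 3)` and `(Ω₈⁺(2), 5)` (helper588)
-/

set_option autoImplicit false

namespace Cfsg.Agent.H588.RIM.Row

open Cfsg Subgroup Cfsg.Agent.H665.RIM
open Cfsg.Agent.KFacts.OddLift.Basic (Cov)
open Cfsg.Agent.OddHalf.D9.EEight Cfsg.Agent.OddHalf.D9.EEight.Id.Gen
open Cfsg.Agent.OddHalf.D9.EEight.Id.ModTwo (Q good)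
open Cfsg.Agent.OddHalf.D9.EEight.Id.Onto Cfsg.Agent.H588.RIM

universe u

/-- degree bound -/
theorem deg_sq_le {G : Type u} [Group G] [Finite G] {θ : G → ℂ} (hθ : IsIrrCharacter G θ) :
    charDegree θ ^ 2 ≤ Nat.card G := by
  classical
  cases nonempty_fintype G
  have : Finite (IrrCharacter G) := Characters.Core.finite_irr
  cases nonempty_fintype (IrrCharacter G)
  have h1 := S0145.sum_irr_mul_conj (1 : G) 1
  rw [if_pos (IsConj.refl 1)] at h1
  have h2 : ∀ χ : IrrCharacter G, (χ : G → ℂ) 1 * (starRingEnd ℂ) ((χ : G → ℂ) 1) =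
      ((charDegree (χ : G → ℂ) ^ 2 : ℕ) : ℂ) := fun χ => by
    rw [Blocks.Basic.irr_one_eq_charDegree χ.2]
    push_cast
    rw [map_natCast]
    ring
  rw [Finset.sum_congr rfl fun χ _ => h2 χ] at h1
  have h3 : ∑ χ : IrrCharacter G, charDegree (χ : G → ℂ) ^ 2 = Nat.card (centralizer ({1} : Set G)) := by
    exact_mod_cast h1
  have h4 : charDegree θ ^ 2 ≤ ∑ χ : IrrCharacter G, charDegree (χ : G → ℂ) ^ 2 :=
    Finset.single_le_sum (f := fun χ : IrrCharacter G => charDegree (χ : G → ℂ) ^ 2)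
      (fun χ _ => Nat.zero_le _) (Finset.mem_univ ⟨θ, hθ⟩)
  exact (h4.trans h3.le).trans (card_le_card_group _)

theorem card_K : Nat.card ↥K₀ = 348364800 := by
  rw [OddHalf.D9.EEight.Id.Main.card_K, card_P]

/-- the end: from `K₀ = 2.Ω₈⁺(2)` to all faithful central characters -/
theorem nball_of_odd {p : ℕ} (h : ∃ χ : ↥K₀ → ℂ, IsIrrCharacter ↥K₀ χ ∧ χ KZ.n = -χ 1 ∧ p ∣ charDegree χ)
    {F : Type*} [Field F] [Fintype F] (hF : Fintype.card F = 2) {S : Type u} [Group S]
    (e : Nonempty (S ≃* Cfsg.POmega F (Cfsg.quadFormPlus 4 F))) : NBall p S := by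
  intro m hm _ E _ _ π hs hc hp hcard l hl
  obtain ⟨χ, hχ, hn, hd⟩ := h
  obtain ⟨e⟩ := e
  obtain ⟨e1⟩ := StdO8.Model.exists_equiv hF
  obtain ⟨e2⟩ := StdO8.Model.exists_equiv (F := ZMod 2) (by rw [ZMod.card])
  obtain ⟨e3⟩ := H63.EightTwo.exists_equiv
  have h4 := H88.RIM.card_ker_dvd (e.trans e1) π hs hc hp
  let ε := ((e.trans e1).trans e2.symm).trans e3
  let π' : E →* ClassicalGeometry.OrthAut1.P Q := ε.toMonoidHom.comp π
  have hker : π'.ker = π.ker := by
    ext g
    rw [MonoidHom.mem_ker, MonoidHom.mem_ker]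
    exact map_eq_one_iff ε ε.injective
  have h2 : IsPGroup 2 π.ker := by
    rw [show (4 : ℕ) = 2 ^ 2 by norm_num, Nat.dvd_prime_pow Nat.prime_two] at h4
    obtain ⟨k, _, hk⟩ := h4
    exact IsPGroup.of_card hk
  have hcov : Cov π' :=
    { surj := ε.surjective.comp hs
      central := by rw [hker]; exact hc
      two := by rw [hker]; exact h2
      perfect := hp }
  have hne : π'.ker ≠ ⊥ := fun h => by
    rw [hker] at h
    rw [h, card_bot] at hcard
    omega
  have hcyc : IsCyclic π'.ker := by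
    rw [hker]
    exact isCyclic_of_injective_ringHom ((Units.coeHom ℂ).comp l) (Units.val_injective.comp hl)
  obtain ⟨f⟩ := OddHalf.D9.EEight.Id.Main.exists_iso hcov hne hcyc
  have hsimple : IsSimpleGroup (ClassicalGeometry.OrthAut1.P Q) := simple_P
  have hcen : Subgroup.center (ClassicalGeometry.OrthAut1.P Q) = ⊥ := by
    rcases Subgroup.Normal.eq_bot_or_eq_top (H := Subgroup.center (ClassicalGeometry.OrthAut1.P Q)) inferInstance
      with h | h
    · exact h
    · exfalso
      have h1 := H63.EightTwo.perfect_P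
      have h2 : commutator (ClassicalGeometry.OrthAut1.P Q) = ⊥ := by
        rw [commutator_def, commutator_eq_bot_iff_le_centralizer]
        intro x _
        rw [mem_centralizer_iff]
        intro y _
        have h3 : y ∈ Subgroup.center (ClassicalGeometry.OrthAut1.P Q) := by rw [h]; exact mem_top _
        exact (mem_center_iff.1 h3 x).symm
      rw [h1] at h2
      exact top_ne_bot h2
  have hf : Function.Surjective f.toMonoidHom := f.surjective
  refine ⟨χ ∘ f.toMonoidHom, Characters.Core.isIrr_comp f.toMonoidHom hf hχ, fun z => ?_, ?_⟩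
  · by_cases hz : (z : E) = 1
    · have hz1 : z = 1 := Subtype.ext hz
      subst hz1
      rw [map_one]
      simp
    · have h5 : f (z : E) ∈ Subgroup.center ↥K₀ := by
        have h6 := mem_center_iff.1 (hc z.2)
        rw [mem_center_iff]
        intro g
        obtain ⟨x, rfl⟩ := f.surjective g
        rw [← map_mul, h6 x, map_mul]
      have h6 : pi1 (f (z : E)) = 1 := by
        have h7 : pi1 (f (z : E)) ∈ Subgroup.center (ClassicalGeometry.OrthAut1.P Q) := by
          rw [mem_center_iff] at h5 ⊢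
          intro g
          obtain ⟨x, rfl⟩ := pi1_surj g
          rw [← map_mul, h5 x, map_mul]
        rw [hcen] at h7
        exact mem_bot.1 h7
      have h7 : f (z : E) = KZ.n := by
        rcases pi1_eq_one.1 h6 with h8 | h8
        · exact absurd ((map_eq_one_iff f f.injective).1 h8) hz
        · exact h8
      have h8 : z * z = 1 := by
        apply Subtype.ext
        apply f.injective
        show f ((z : E) * z) = f 1
        rw [map_mul, h7, KZ.n_sq, map_one]
      have h9 : (l z : ℂ) = -1 := by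
        have h10 : (l z : ℂ) * l z = 1 := by
          rw [← Units.val_mul, ← map_mul, h8, map_one, Units.val_one]
        have h11 : (l z : ℂ) ≠ 1 := fun h => hz (by
          have h12 : l z = l 1 := by rw [map_one]; exact Units.ext h
          exact congrArg Subtype.val (hl h12))
        exact (mul_self_eq_one_iff.1 h10).resolve_left h11
      show χ (f (z : E)) = χ (f 1) * l z
      rw [h7, map_one, h9, hn]
      ring
  · have h5 : charDegree (χ ∘ f.toMonoidHom) = charDegree χ := by
      unfold charDegree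
      show ⌊(χ (f 1)).re⌋₊ = _
      rw [map_one]
    rw [h5]
    exact hd

theorem card_alt : Nat.card (alternatingGroup (Fin 5)) = 60 := by
  rw [Nat.card_eq_fintype_card]
  have := two_mul_card_alternatingGroup (α := Fin 5)
  rw [Fintype.card_perm, Fintype.card_fin] at this
  simp only [Nat.factorial] at this
  omega

theorem exists_five : ∃ θ : ↥(KZ.LX {4, 5, 6, 7}) → ℂ, IsIrrCharacter _ θ ∧ charDegree θ = 5 := by
  obtain ⟨f⟩ := H88.RIM.nonempty_LX
  obtain ⟨-, d, ⟨θ, hθ⟩, hd⟩ := S3669.five_mem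
  have h1 := deg_sq_le θ.2
  rw [card_alt, hθ] at h1
  have h2 : d = 5 := by
    have h3 : d < 8 := by nlinarith
    have h4 : 0 < charDegree (θ : alternatingGroup (Fin 5) → ℂ) := Blocks.Basic.charDegree_pos θ.2
    rw [hθ] at h4
    omega
  have hf : Function.Surjective f.toMonoidHom := f.surjective
  refine ⟨θ ∘ f.toMonoidHom, Characters.Core.isIrr_comp f.toMonoidHom hf θ.2, ?_⟩
  unfold charDegree
  show ⌊((θ : alternatingGroup (Fin 5) → ℂ) (f 1)).re⌋₊ = _
  rw [map_one]
  exact hθ.trans h2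

instance : Finite ↥K₀ := Nat.finite_of_card_ne_zero (by rw [card_K]; norm_num)

/-- **The row `(Ω₈⁺(2), 5)`.** -/
theorem nball_five {F : Type*} [Field F] [Fintype F] (hF : Fintype.card F = 2) {S : Type u} [Group S]
    (e : Nonempty (S ≃* Cfsg.POmega F (Cfsg.quadFormPlus 4 F))) : NBall 5 S := by
  obtain ⟨θ, hθ, hd⟩ := exists_five
  exact nball_of_odd (odd_five card_K H88.RIM.nonempty_LX H242.RIM.EE.card_LX hθ hd) hF e

/-- **The row `(Ω₈⁺(2), 3)`.** -/
theorem nball_three {F : Type*} [Field F] [Fintype F] (hF : Fintype.card F = 2) {S : Type u} [Group S]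
    (e : Nonempty (S ≃* Cfsg.POmega F (Cfsg.quadFormPlus 4 F))) : NBall 3 S := by
  obtain ⟨θ, hθ, hd⟩ := H242.RIM.EE.exists_eightyone
  exact nball_of_odd (odd_three card_K H88.RIM.nonempty_LX H242.RIM.EE.card_LX hθ hd) hF e

end Cfsg.Agent.H588.RIM.Row
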